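import Groth.Agent.CentConn12.Main
import Groth.Agent.AlgGrpLib.ImageSubgroup
import Groth.Agent.AlgGrpLib.ClosureSubgroup
import Groth.Agent.SGA3cLib.Irreducible
import Groth.Agent.SGA3cLib.TorusBasic
import Groth.Agent.ConjConst26.MaxTorusConj
import Mathlib.AlgebraicGeometry.Sites.Fpqc

/-!
# Tools for images of centralizers of tori
-/

set_option autoImplicit false
set_option backward.isDefEq.respectTransparency.types false
set_option maxHeartbeats 800000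
set_option linter.style.haveILetI false

universe u

open CategoryTheory CategoryTheory.Limits MonoidalCategory CartesianMonoidalCategory MonObj GrpObj AlgebraicGeometry
open WithConv
open Groth.Agent.AlgGrpLib (ptOf)

noncomputable section

namespace Groth.Agent.CentImg12

variable {k : Type u} [Field k]

local notation "Sk" => Over (Spec (CommRingCat.of k))

/-- Two faithfully flat factorizations through monomorphisms agree. -/
theorem exists_iso {X A B H : Sk} (p : X ⟶ A) (q : X ⟶ B) [Flat p.left] [Surjective p.left] [QuasiCompact p.left]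
    [Flat q.left] [Surjective q.left] [QuasiCompact q.left] (a : A ⟶ H) (b : B ⟶ H) [Mono a] [Mono b]
    (h : p ≫ a = q ≫ b) : ∃ e : A ≅ B, p ≫ e.hom = q ∧ e.hom ≫ b = a := by
  have key : ∀ {A B : Sk} (p : X ⟶ A) (q : X ⟶ B) [Flat p.left] [Surjective p.left] [QuasiCompact p.left]
      (a : A ⟶ H) (b : B ⟶ H) [Mono b], p ≫ a = q ≫ b → ∃ f : A ⟶ B, p ≫ f = q ∧ f ≫ b = a := by
    intro A B p q _ _ _ a b _ h
    have h' : p.left ≫ a.left = q.left ≫ b.left := congrArg CommaMorphism.left h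
    let f := EffectiveEpi.desc p.left q.left fun g₁ g₂ hg => by
      rw [← cancel_mono b.left, Category.assoc, Category.assoc, ← h', reassoc_of% hg]
    have hf : p.left ≫ f = q.left := EffectiveEpi.fac p.left q.left _
    have hfb : f ≫ b.left = a.left := by
      rw [← cancel_epi p.left, reassoc_of% hf, h']
    refine ⟨Over.homMk f ?_, Over.OverMorphism.ext hf, Over.OverMorphism.ext hfb⟩
    rw [← Over.w b, ← Category.assoc, hfb, Over.w a]
  obtain ⟨f, hf, hfb⟩ := key p q a b h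
  obtain ⟨g, hg, hga⟩ := key q p b a h.symm
  exact ⟨⟨f, g, by rw [← cancel_mono a, Category.assoc, hga, hfb, Category.id_comp],
    by rw [← cancel_mono b, Category.assoc, hfb, hga, Category.id_comp]⟩, hf, hfb⟩

variable [IsAlgClosed k] {G T : Over (Spec (CommRingCat.of k))} [GrpObj G] [GrpObj T]

theorem comm_torus (hT : Red.IsTorus T) : IsCommMonObj T := ⟨by
  rw [show (β_ T T).hom = lift (snd T T) (fst T T) by ext <;> simp, ← Hom.mul_def,
    SGA3cLib.torus_mul_comm hT, Hom.mul_def, lift_fst_snd, Category.id_comp]⟩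

/-- A torus has finitely many rational points of a given order invertible in the field. -/
theorem finite_torsion (hT : Red.IsTorus T) [QuasiCompact T.hom] {n : ℕ} (hn : (n : k) ≠ 0) :
    {t : 𝟙_ Sk ⟶ T | t ^ n = 1}.Finite := by
  haveI := comm_torus hT
  haveI : Smooth T.hom := AlgGrpLib.AxesTorus.smooth_of_isTorus hT
  haveI : IsSeparated T.hom := SGA3xLib.isSeparated_of_grpObj T
  haveI : Etale ((𝟙 T : T ⟶ T) ^ n).left := S4112.result k T n hn
  haveI := FlatMorWeight.locallyQuasiFinite_of_etale ((𝟙 T : T ⟶ T) ^ n).left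
  haveI : QuasiCompact ((𝟙 T : T ⟶ T) ^ n).left := by
    haveI : QuasiCompact (((𝟙 T : T ⟶ T) ^ n).left ≫ T.hom) := by rw [Over.w]; infer_instance
    exact QuasiCompact.of_comp _ T.hom
  refine Set.Finite.of_finite_image ((((𝟙 T : T ⟶ T) ^ n).left.finite_preimage_singleton
    (ptOf (1 : 𝟙_ Sk ⟶ T))).subset ?_) (fun x _ y _ h => AGFQuot23.ratPoint_ext x y h)
  rintro _ ⟨t, ht, rfl⟩
  have h2 : t ≫ ((𝟙 T : T ⟶ T) ^ n) = 1 := by rw [MonObj.comp_pow, Category.comp_id]; exact ht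
  exact congrArg (fun f : _ ⟶ T => ptOf f) h2

/-- A rational point commuting with the points of a torus. -/
def Comm (i : T ⟶ G) (g : 𝟙_ Sk ⟶ G) : Prop := ∀ t : 𝟙_ Sk ⟶ T, g * (t ≫ i) = (t ≫ i) * g

/-- A rational point normalizing the points of a torus. -/
def Nor (i : T ⟶ G) (g : 𝟙_ Sk ⟶ G) : Prop := ∀ t : 𝟙_ Sk ⟶ T, ∃ t' : 𝟙_ Sk ⟶ T, g * (t ≫ i) * g⁻¹ = t' ≫ i

variable [LocallyOfFiniteType G.hom] [QuasiCompact G.hom]

/-- Finitely many torsion points detect the centralizer of a torus. -/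
theorem exists_detecting (hT : Red.IsTorus T) (i : T ⟶ G) [IsMonHom i] :
    ∃ F : Set (𝟙_ Sk ⟶ T), F.Finite ∧ (∀ t ∈ F, ∃ n : ℕ, (n : k) ≠ 0 ∧ t ^ n = 1) ∧
      ∀ g : 𝟙_ Sk ⟶ G, (∀ t ∈ F, g * (t ≫ i) = (t ≫ i) * g) → Comm i g := by
  classical
  haveI : IsSeparated G.hom := SGA3xLib.isSeparated_of_grpObj G
  haveI : IsLocallyNoetherian G.left := LocallyOfFiniteType.isLocallyNoetherian G.hom
  haveI : CompactSpace G.left := (quasiCompact_iff_compactSpace G.hom).1 inferInstance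
  haveI : IsNoetherian G.left := ⟨⟩
  haveI : Smooth T.hom := AlgGrpLib.AxesTorus.smooth_of_isTorus hT
  let c : (𝟙_ Sk ⟶ G) → (G ⟶ G) := fun s => 𝟙 G * (toUnit G ≫ s) * (𝟙 G)⁻¹ * (toUnit G ≫ s)⁻¹
  have hc : ∀ (s x : 𝟙_ Sk ⟶ G), x ≫ c s = x * s * x⁻¹ * s⁻¹ := by
    intro s x
    simp only [c, MonObj.comp_mul, GrpObj.comp_inv, Category.comp_id, ← Category.assoc,
      toUnit_unique (x ≫ toUnit G) (𝟙 _), Category.id_comp]
  let J := {t : 𝟙_ Sk ⟶ T // ∃ n : ℕ, (n : k) ≠ 0 ∧ t ^ n = 1}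
  let O : J → Set G.left := fun t => ((c (t.1 ≫ i)).left ⁻¹' {ptOf (1 : 𝟙_ Sk ⟶ G)})ᶜ
  have hO : ∀ t, IsOpen (O t) := fun t =>
    ((AGFQuot23.isClosed_ptOf _).preimage (c (t.1 ≫ i)).left.continuous).isOpen_compl
  have hmem : ∀ (t : J) (g : 𝟙_ Sk ⟶ G), ptOf g ∈ O t ↔ ¬ g * (t.1 ≫ i) = (t.1 ≫ i) * g := by
    intro t g
    refine not_congr ⟨fun h => ?_, fun h => ?_⟩
    · have h1 : g ≫ c (t.1 ≫ i) = 1 := AGFQuot23.ratPoint_ext _ _ h
      rw [hc, mul_inv_eq_one, mul_inv_eq_iff_eq_mul] at h1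
      exact h1
    · have h1 : g ≫ c (t.1 ≫ i) = 1 := by rw [hc, h, mul_inv_cancel_right, mul_inv_cancel]
      exact congrArg (fun f : _ ⟶ G => ptOf f) h1
  obtain ⟨F, hF⟩ := (TopologicalSpace.NoetherianSpace.isCompact (⋃ t, O t)).elim_finite_subcover O hO subset_rfl
  refine ⟨(fun t : J => t.1) '' (F : Set J), F.finite_toSet.image _, ?_, fun g hg => ?_⟩
  · rintro _ ⟨t, -, rfl⟩; exact t.2
  have htors : ∀ (t : J), g * (t.1 ≫ i) = (t.1 ≫ i) * g := by
    intro t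
    by_contra h
    obtain ⟨t', ht', hmem'⟩ := Set.mem_iUnion₂.1 (hF (Set.mem_iUnion.2 ⟨t, (hmem t g).2 h⟩))
    exact (hmem t' g).1 hmem' (hg _ ⟨t', ht', rfl⟩)
  obtain ⟨N, _, r, ε, eT, _, _⟩ := HMTor29.MaxTorus.isFreeDiag_of_isTorus T hT
  let h : T ⟶ G := (toUnit T ≫ g) * i * (toUnit T ≫ g)⁻¹ * i⁻¹
  have hh : ∀ t : 𝟙_ Sk ⟶ T, t ≫ h = g * (t ≫ i) * g⁻¹ * (t ≫ i)⁻¹ := by
    intro t
    simp only [h, MonObj.comp_mul, GrpObj.comp_inv, ← Category.assoc, toUnit_unique (t ≫ toUnit T) (𝟙 _),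
      Category.id_comp]
  have huniv : (eT ≫ h).left ⁻¹' {ptOf (1 : 𝟙_ Sk ⟶ G)} = Set.univ := by
    refine CentConn12.torsion_dense ε ((AGFQuot23.isClosed_ptOf _).preimage (eT ≫ h).left.continuous)
      fun w n hn hw => ?_
    have ht : (AGFQuot23.ratPt w ≫ eT) ^ n = 1 := by
      let φ : HopfQuot.Pt k (MonoidAlgebra k N) k →* (𝟙_ Sk ⟶ T) :=
        MonoidHom.mk' (fun w => AGFQuot23.ratPt w ≫ eT) fun a b => by rw [AGFQuot23.ratPt_mul, MonObj.mul_comp]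
      show φ w ^ n = 1
      rw [← map_pow, hw, map_one]
    have h1 : AGFQuot23.ratPt w ≫ eT ≫ h = 1 := by
      rw [← Category.assoc, hh, htors ⟨_, n, hn, ht⟩, mul_inv_cancel_right, mul_inv_cancel]
    exact congrArg (fun f : _ ⟶ G => ptOf f) h1
  intro t
  have h1 : (t ≫ inv eT) ≫ eT ≫ h = 1 :=
    AGFQuot23.ratPoint_ext _ _ (huniv.ge (Set.mem_univ (ptOf (t ≫ inv eT))))
  rw [Category.assoc, IsIso.inv_hom_id_assoc, hh, mul_inv_eq_one, mul_inv_eq_iff_eq_mul] at h1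
  exact h1

/-- The normalizer of a torus has finitely many classes modulo the centralizer. -/
theorem exists_reps (hT : Red.IsTorus T) [QuasiCompact T.hom] (i : T ⟶ G) [IsMonHom i] [Mono i] :
    ∃ R : Set (𝟙_ Sk ⟶ G), R.Finite ∧ ∀ g, Nor i g → ∃ r ∈ R, Comm i (r⁻¹ * g) := by
  classical
  obtain ⟨F, hFf, hFt, hF⟩ := exists_detecting hT i
  haveI := hFf.to_subtype
  choose n hn hn1 using hFt
  let S : Set (F → (𝟙_ Sk ⟶ T)) := {φ | ∃ g : 𝟙_ Sk ⟶ G, ∀ t : F, g * (t.1 ≫ i) * g⁻¹ = φ t ≫ i}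
  have hS : S.Finite := by
    refine (Set.Finite.pi (t := fun t : F => {x : 𝟙_ Sk ⟶ T | x ^ n t.1 t.2 = 1})
      fun t => finite_torsion hT (hn t.1 t.2)).subset ?_
    rintro φ ⟨g, hg⟩ t -
    show φ t ^ n t.1 t.2 = 1
    rw [← cancel_mono i, MonObj.pow_comp, ← hg t, conj_pow, ← MonObj.pow_comp, hn1 t.1 t.2, MonObj.one_comp,
      _root_.mul_one, mul_inv_cancel]
  haveI := hS.to_subtype
  choose r hr using fun φ : S => φ.2
  refine ⟨Set.range r, Set.finite_range r, fun g hg => ?_⟩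
  choose t' ht' using fun t : F => hg t.1
  refine ⟨r ⟨t', g, ht'⟩, ⟨_, rfl⟩, hF _ fun t ht => ?_⟩
  have h1 := hr ⟨t', g, ht'⟩ ⟨t, ht⟩
  rw [← ht' ⟨t, ht⟩] at h1
  have h2 : (r ⟨t', g, ht'⟩)⁻¹ * (g * (t ≫ i) * g⁻¹) * r ⟨t', g, ht'⟩ = t ≫ i := by
    rw [← h1]; group
  calc (r ⟨t', g, ht'⟩)⁻¹ * g * (t ≫ i)
      = ((r ⟨t', g, ht'⟩)⁻¹ * (g * (t ≫ i) * g⁻¹) * r ⟨t', g, ht'⟩) * ((r ⟨t', g, ht'⟩)⁻¹ * g) := by group
    _ = (t ≫ i) * ((r ⟨t', g, ht'⟩)⁻¹ * g) := by rw [h2]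

/-- Factorization of a reduced source through a closed immersion. -/
theorem exists_lift {X Y Z : Sk} [IsReduced X.left] (f : X ⟶ Z) (z : Y ⟶ Z) [IsClosedImmersion z.left]
    (h : Set.range f.left ⊆ Set.range z.left) : ∃ m : X ⟶ Y, m ≫ z = f := by
  obtain ⟨g, hg⟩ := RedSepLib.exists_lift_of_range_subset f.left z.left h
  exact ⟨Over.homMk g (by rw [← Over.w z, ← Category.assoc, hg, Over.w f]), Over.OverMorphism.ext hg⟩

end Groth.Agent.CentImg12
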